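import Mathlib

/-!
# Lengths at generisations are bounded by the length modulo a regular element
-/

universe u

set_option autoImplicit false
set_option linter.style.haveILetI false

namespace Groth.Agent.DvrLength

variable {B : Type u} [CommRing B]

theorem length_localized_submodule {N : Type u} [AddCommGroup N] [Module B N] (p : Submonoid B) (K : Submodule B N) :
    Module.length (Localization p) (LocalizedModule p K) = Module.length (Localization p) (K.localized p) :=
  (LinearEquiv.extendScalarsOfIsLocalization p (Localization p)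
    (IsLocalizedModule.iso p (K.toLocalized p))).length_eq

theorem length_quot_smul_congr {R M M' : Type u} [CommRing R] [AddCommGroup M] [Module R M] [AddCommGroup M']
    [Module R M'] (e : M ≃ₗ[R] M') (I : Ideal R) :
    Module.length R (M ⧸ I • (⊤ : Submodule R M)) = Module.length R (M' ⧸ I • (⊤ : Submodule R M')) :=
  (Submodule.Quotient.equiv _ _ e (by
    rw [Submodule.map_smul'', Submodule.map_top, LinearEquiv.range])).length_eq

/-- One step: a submodule on which a regular element cuts out a torsion free quotient loses at least one. -/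
theorem add_one_le_length {R M : Type u} [CommRing R] [AddCommGroup M] [Module R M] [Module.Finite R M]
    {t : R} (ht : t ∈ (⊥ : Ideal R).jacobson) (K : Submodule R M) (hK : K ≠ ⊤) (hreg : ∀ m, t • m ∈ K → m ∈ K) :
    Module.length R (K ⧸ Ideal.span {t} • (⊤ : Submodule R K)) + 1 ≤
      Module.length R (M ⧸ Ideal.span {t} • (⊤ : Submodule R M)) := by
  let I := Ideal.span {t}
  let φ : (K ⧸ I • (⊤ : Submodule R K)) →ₗ[R] M ⧸ I • (⊤ : Submodule R M) :=
    Submodule.mapQ _ _ K.subtype (by
      rw [← Submodule.map_le_iff_le_comap, Submodule.map_smul'']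
      exact Submodule.smul_mono le_rfl le_top)
  have hφ : Function.Injective φ := by
    refine (injective_iff_map_eq_zero _).2 fun z hz => ?_
    obtain ⟨z, rfl⟩ := Submodule.Quotient.mk_surjective _ z
    rw [Submodule.mapQ_apply, Submodule.Quotient.mk_eq_zero, Submodule.ideal_span_singleton_smul,
      Submodule.mem_smul_pointwise_iff_exists] at hz
    obtain ⟨m, -, hm⟩ := hz
    have hmK : m ∈ K := hreg m (by rw [hm]; exact z.2)
    rw [Submodule.Quotient.mk_eq_zero, Submodule.ideal_span_singleton_smul, Submodule.mem_smul_pointwise_iff_exists]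
    exact ⟨⟨m, hmK⟩, Submodule.mem_top, Subtype.ext hm⟩
  have hnt : Nontrivial ((M ⧸ I • (⊤ : Submodule R M)) ⧸ LinearMap.range φ) := by
    rw [Submodule.Quotient.nontrivial_iff]
    intro htop
    refine hK (top_le_iff.1 (Submodule.le_of_le_smul_of_le_jacobson_bot (I := I) Module.Finite.fg_top
      ((Ideal.span_singleton_le_iff_mem _).2 ht) fun m _ => ?_))
    obtain ⟨k, hk⟩ := (htop ▸ Submodule.mem_top : Submodule.Quotient.mk m ∈ LinearMap.range φ)
    obtain ⟨k, rfl⟩ := Submodule.Quotient.mk_surjective _ k
    rw [Submodule.mapQ_apply, Submodule.Quotient.eq] at hk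
    have h1 : m = (k : M) - ((k : M) - m) := by abel
    rw [h1]
    exact sub_mem (Submodule.mem_sup_left k.2) (Submodule.mem_sup_right hk)
  rw [Module.length_eq_add_of_exact φ (LinearMap.range φ).mkQ hφ (Submodule.mkQ_surjective _)
    (LinearMap.exact_map_mkQ_range φ)]
  haveI := hnt
  exact add_le_add le_rfl (Order.one_le_iff_pos.2 Module.length_pos)

variable [IsNoetherianRing B]

/-- **The sum of the lengths at generisations avoiding `t` is at most the length modulo `t`.** -/
theorem sum_length_le (Q : Ideal B) [Q.IsPrime] {t : B} (htQ : t ∈ Q) (S : Finset {P : PrimeSpectrum B // P.asIdeal ≤ Q ∧ t ∉ P.asIdeal})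
    (hanti : ∀ a ∈ S, ∀ b ∈ S, a.1.asIdeal ≤ b.1.asIdeal → a = b)
    (N : Type u) [AddCommGroup N] [Module B N] [Module.Finite B N]
    (hreg : IsSMulRegular (LocalizedModule Q.primeCompl N) t) :
    ∑ P ∈ S, Module.length (Localization P.1.asIdeal.primeCompl) (LocalizedModule P.1.asIdeal.primeCompl N) ≤
      Module.length (Localization Q.primeCompl) (LocalizedModule Q.primeCompl N ⧸
        Ideal.span {algebraMap B (Localization Q.primeCompl) t} • (⊤ : Submodule (Localization Q.primeCompl) (LocalizedModule Q.primeCompl N))) := by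
  classical
  suffices H : ∀ (n : ℕ) (N : Type u) [AddCommGroup N] [Module B N] [Module.Finite B N],
      IsSMulRegular (LocalizedModule Q.primeCompl N) t →
      (n : ℕ∞) ≤ ∑ P ∈ S, Module.length (Localization P.1.asIdeal.primeCompl) (LocalizedModule P.1.asIdeal.primeCompl N) →
      (n : ℕ∞) ≤ Module.length (Localization Q.primeCompl) (LocalizedModule Q.primeCompl N ⧸
        Ideal.span {algebraMap B (Localization Q.primeCompl) t} • (⊤ : Submodule (Localization Q.primeCompl) (LocalizedModule Q.primeCompl N))) by
    exact ENat.forall_natCast_le_iff_le.1 fun n hn => H n N hreg hn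
  intro n
  induction n with
  | zero => intros; simp
  | succ n ih =>
    intro N _ _ _ hreg hn
    obtain ⟨P, hP, hPne⟩ : ∃ P ∈ S, Module.length (Localization P.1.asIdeal.primeCompl) (LocalizedModule P.1.asIdeal.primeCompl N) ≠ 0 := by
      by_contra! h
      rw [Finset.sum_eq_zero h] at hn
      simp at hn
    let p := P.1.asIdeal
    let L := LocalizedModule p.primeCompl N
    let f := LocalizedModule.mkLinearMap p.primeCompl N
    haveI : Nontrivial L := not_subsingleton_iff_nontrivial.1 (mt Module.length_eq_zero_iff.2 hPne)
    haveI : Module.Finite (Localization p.primeCompl) L := Module.Finite.of_isLocalizedModule p.primeCompl f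
    obtain ⟨V, hV⟩ : ∃ V : Submodule (Localization p.primeCompl) L, IsCoatom V := by
      haveI : IsCoatomic (Submodule (Localization p.primeCompl) L) :=
        CompleteLattice.coatomic_of_top_compact ((Submodule.fg_iff_compact _).1 Module.Finite.fg_top)
      obtain h | ⟨V, hV, -⟩ := eq_top_or_exists_le_coatom (⊥ : Submodule (Localization p.primeCompl) L)
      · exact absurd h bot_ne_top
      · exact ⟨V, hV⟩
    haveI : IsSimpleModule (Localization p.primeCompl) (L ⧸ V) := isSimpleModule_iff_isCoatom.2 hV
    let K : Submodule B N := (V.restrictScalars B).comap f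
    have hKP : K.localized p.primeCompl = V := by
      ext x
      rw [Submodule.localized, Submodule.mem_localized']
      constructor
      · rintro ⟨m, hm, s, rfl⟩
        rw [← Submodule.smul_mem_iff_of_isUnit V (IsLocalization.map_units (Localization p.primeCompl) s), algebraMap_smul,
          ← Submonoid.smul_def, IsLocalizedModule.mk'_cancel']
        exact hm
      · intro hx
        obtain ⟨⟨m, s⟩, rfl⟩ := IsLocalizedModule.mk'_surjective p.primeCompl f x
        refine ⟨m, ?_, s, rfl⟩
        have h1 := V.smul_mem (algebraMap B (Localization p.primeCompl) s) hx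
        rw [algebraMap_smul, Function.uncurry_apply_pair, ← Submonoid.smul_def, IsLocalizedModule.mk'_cancel'] at h1
        exact h1
    have hlenP : Module.length (Localization p.primeCompl) L =
        Module.length (Localization p.primeCompl) (LocalizedModule p.primeCompl K) + 1 := by
      rw [length_localized_submodule, hKP, Module.length_eq_add_of_exact V.subtype V.mkQ V.injective_subtype
        V.mkQ_surjective (LinearMap.exact_subtype_mkQ V), Module.length_eq_one (Localization p.primeCompl) (L ⧸ V)]
    have hmem : ∀ (c : B) (m : N), c ∉ p → c • m ∈ K → m ∈ K := fun c m hc hm => by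
      change f (c • m) ∈ V at hm
      rw [map_smul, ← algebraMap_smul (Localization p.primeCompl) c,
        Submodule.smul_mem_iff_of_isUnit V (IsLocalization.map_units (Localization p.primeCompl) (⟨c, hc⟩ : p.primeCompl))] at hm
      exact hm
    have hkill : ∀ c ∈ p, ∀ m : N, c • m ∈ K := fun c hc m => by
      change f (c • m) ∈ V
      rw [map_smul, ← algebraMap_smul (Localization p.primeCompl) c, ← Submodule.Quotient.mk_eq_zero, Submodule.Quotient.mk_smul]
      have hann : Module.annihilator (Localization p.primeCompl) (L ⧸ V) = IsLocalRing.maximalIdeal _ := IsLocalRing.eq_maximalIdeal IsSimpleModule.annihilator_isMaximal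
      have hc' : algebraMap B (Localization p.primeCompl) c ∈ IsLocalRing.maximalIdeal (Localization p.primeCompl) :=
        (IsLocalization.AtPrime.to_map_mem_maximal_iff (Localization p.primeCompl) p c).2 hc
      rw [← hann] at hc'
      exact Module.mem_annihilator.1 hc' _
    have hother : ∀ P' ∈ S, P' ≠ P →
        Module.length (Localization P'.1.asIdeal.primeCompl) (LocalizedModule P'.1.asIdeal.primeCompl N) ≤
          Module.length (Localization P'.1.asIdeal.primeCompl) (LocalizedModule P'.1.asIdeal.primeCompl K) := by
      intro P' hP' hne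
      obtain ⟨c, hcp, hcP'⟩ := SetLike.not_le_iff_exists.1 fun hle : p ≤ P'.1.asIdeal => hne (hanti P hP P' hP' hle).symm
      rw [length_localized_submodule, ← Module.length_top]
      refine (LinearEquiv.ofEq _ _ (le_antisymm ?_ le_top)).length_eq.le
      intro x _
      obtain ⟨⟨m, s⟩, rfl⟩ := IsLocalizedModule.mk'_surjective P'.1.asIdeal.primeCompl (LocalizedModule.mkLinearMap _ N) x
      rw [Submodule.localized, Submodule.mem_localized']
      refine ⟨c • m, hkill c hcp m, ⟨c, hcP'⟩ * s, ?_⟩
      exact IsLocalizedModule.mk'_cancel_left (f := LocalizedModule.mkLinearMap P'.1.asIdeal.primeCompl N) m ⟨c, hcP'⟩ s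
    have hsum : (n : ℕ∞) + 1 ≤ (∑ P' ∈ S, Module.length (Localization P'.1.asIdeal.primeCompl) (LocalizedModule P'.1.asIdeal.primeCompl K)) + 1 := by
      rw [← Finset.add_sum_erase S _ hP, add_right_comm]
      refine le_trans (by exact_mod_cast hn) ?_
      rw [← Finset.add_sum_erase S _ hP]
      exact add_le_add hlenP.le (Finset.sum_le_sum fun P' hP' => hother P' (Finset.mem_of_mem_erase hP') (Finset.ne_of_mem_erase hP'))
    have hn' := (ENat.add_le_add_iff_right (by simp)).1 hsum
    let g := LocalizedModule.mkLinearMap Q.primeCompl N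
    let e := LinearEquiv.extendScalarsOfIsLocalization Q.primeCompl (Localization Q.primeCompl)
      (IsLocalizedModule.iso Q.primeCompl (K.toLocalized Q.primeCompl))
    have hregK : IsSMulRegular (LocalizedModule Q.primeCompl K) t := fun a b hab => e.injective (Subtype.ext (hreg (by
      change t • (e a : LocalizedModule Q.primeCompl N) = t • (e b : LocalizedModule Q.primeCompl N)
      have h2 : e (t • a) = e (t • b) := congrArg e hab
      rw [← algebraMap_smul (Localization Q.primeCompl) t a, ← algebraMap_smul (Localization Q.primeCompl) t b, e.map_smul, e.map_smul] at h2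
      have h3 := congrArg Subtype.val h2
      simpa only [Submodule.coe_smul, algebraMap_smul, Submodule.coe_smul_of_tower] using h3)))
    have h1 := ih K hregK hn'
    haveI : Module.Finite (Localization Q.primeCompl) (LocalizedModule Q.primeCompl N) :=
      Module.Finite.of_isLocalizedModule Q.primeCompl g
    have hjac : algebraMap B (Localization Q.primeCompl) t ∈ (⊥ : Ideal (Localization Q.primeCompl)).jacobson := by
      rw [IsLocalRing.jacobson_eq_maximalIdeal ⊥ bot_ne_top]
      exact (IsLocalization.AtPrime.to_map_mem_maximal_iff (Localization Q.primeCompl) Q t).2 htQ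
    have hsat : ∀ x, algebraMap B (Localization Q.primeCompl) t • x ∈ K.localized Q.primeCompl → x ∈ K.localized Q.primeCompl := by
      intro x hx
      obtain ⟨⟨m, s⟩, rfl⟩ := IsLocalizedModule.mk'_surjective Q.primeCompl g x
      rw [algebraMap_smul, Function.uncurry_apply_pair, ← IsLocalizedModule.mk'_smul, Submodule.localized, Submodule.mem_localized'] at hx
      obtain ⟨k, hk, s', hks⟩ := hx
      rw [IsLocalizedModule.mk'_eq_mk'_iff] at hks
      obtain ⟨c, hc⟩ := hks
      rw [Submodule.localized, Submodule.mem_localized']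
      refine ⟨m, ?_, s, rfl⟩
      refine hmem (c * s' * t) m (fun h => ?_) ?_
      · rcases P.1.2.mem_or_mem h with h2 | h2
        · rcases P.1.2.mem_or_mem h2 with h3 | h3
          · exact c.2 (P.2.1 h3)
          · exact s'.2 (P.2.1 h3)
        · exact P.2.2 h2
      · rw [mul_smul, mul_smul]
        change c • s' • t • m ∈ K
        rw [hc]
        exact K.smul_mem _ (K.smul_mem _ hk)
    have hKtop : K.localized Q.primeCompl ≠ ⊤ := by
      intro htop
      refine hV.1 (top_le_iff.1 fun x _ => ?_)
      obtain ⟨⟨m, s⟩, rfl⟩ := IsLocalizedModule.mk'_surjective p.primeCompl f x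
      rw [← hKP, Submodule.localized, Submodule.mem_localized']
      refine ⟨m, ?_, s, rfl⟩
      obtain ⟨k, hk, s', hks⟩ := (Submodule.mem_localized' (Localization Q.primeCompl) Q.primeCompl g K _).1 (show g m ∈ K.localized Q.primeCompl by rw [htop]; trivial)
      rw [IsLocalizedModule.mk'_eq_iff, Submonoid.smul_def, ← map_smul] at hks
      obtain ⟨c, hc⟩ := IsLocalizedModule.exists_of_eq (S := Q.primeCompl) (f := g) hks
      refine hmem (c * s') m (fun h => ?_) ?_
      · rcases P.1.2.mem_or_mem h with h2 | h2
        · exact c.2 (P.2.1 h2)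
        · exact s'.2 (P.2.1 h2)
      · rw [mul_smul]
        change c • ((s' : B) • m) ∈ K
        rw [← hc]
        exact K.smul_mem _ hk
    rw [length_quot_smul_congr e] at h1
    calc ((n + 1 : ℕ) : ℕ∞) = (n : ℕ∞) + 1 := by push_cast; rfl
      _ ≤ _ := (add_le_add h1 le_rfl).trans (add_one_le_length hjac _ hKtop hsat)

/-- A minimal prime over `P + (t)`, with `P` associated and avoiding `t`, is associated to `N / tN`. -/
theorem exists_killed_mod {R M : Type u} [CommRing R] [IsNoetherianRing R] [IsLocalRing R] [AddCommGroup M]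
    [Module R M] [Module.Finite R M] {t : R} (ht : t ∈ IsLocalRing.maximalIdeal R) (hreg : IsSMulRegular M t)
    {P : Ideal R} [P.IsPrime] (hP : IsAssociatedPrime P M) (hmin : ∀ P' : Ideal R, P'.IsPrime → P ≤ P' → t ∈ P' → P' = IsLocalRing.maximalIdeal R) :
    IsAssociatedPrime (IsLocalRing.maximalIdeal R) (M ⧸ Ideal.span {t} • (⊤ : Submodule R M)) := by
  obtain ⟨-, x, hx⟩ := isAssociatedPrime_iff.1 hP
  have hann : ∀ r ∈ P, r • x = 0 := fun r hr => by
    rw [hx, Submodule.mem_colon_singleton] at hr
    simpa using hr
  have hx0 : x ≠ 0 := by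
    rintro rfl
    refine ‹P.IsPrime›.ne_top ((Ideal.eq_top_iff_one _).2 ?_)
    rw [hx, Submodule.mem_colon_singleton]; simp
  obtain ⟨k, y, hy, hyt⟩ : ∃ (k : ℕ) (y : M), x = t ^ k • y ∧ y ∉ Ideal.span {t} • (⊤ : Submodule R M) := by
    by_contra! h
    refine hx0 ?_
    have hkey : ∀ k : ℕ, x ∈ Ideal.span {t} ^ k • (⊤ : Submodule R M) := by
      intro k
      induction k with
      | zero => simp
      | succ k ih =>
        rw [Ideal.span_singleton_pow, Submodule.ideal_span_singleton_smul, Submodule.mem_smul_pointwise_iff_exists] at ih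
        obtain ⟨y, -, hy⟩ := ih
        have h2 := h k y hy.symm
        rw [Submodule.ideal_span_singleton_smul, Submodule.mem_smul_pointwise_iff_exists] at h2
        obtain ⟨w, -, rfl⟩ := h2
        rw [Ideal.span_singleton_pow, Submodule.ideal_span_singleton_smul, Submodule.mem_smul_pointwise_iff_exists]
        exact ⟨w, Submodule.mem_top, by rw [← hy, smul_smul, ← pow_succ]⟩
    have h3 : x ∈ (⨅ k : ℕ, Ideal.span {t} ^ k • (⊤ : Submodule R M) : Submodule R M) := (Submodule.mem_iInf _).2 hkey
    rw [Ideal.iInf_pow_smul_eq_bot_of_isLocalRing (M := M) _ (ne_top_of_le_ne_top (IsLocalRing.maximalIdeal.isMaximal R).ne_top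
      ((Ideal.span_singleton_le_iff_mem _).2 ht))] at h3
    exact h3
  let ybar : M ⧸ Ideal.span {t} • (⊤ : Submodule R M) := Submodule.Quotient.mk y
  have hybar : ybar ≠ 0 := fun h => hyt ((Submodule.Quotient.mk_eq_zero _).1 h)
  obtain ⟨P', hP', hle⟩ := exists_le_isAssociatedPrime_of_isNoetherianRing R ybar hybar
  have hPP' : P ≤ P' := fun r hr => hle (by
    have h4 : r • y = 0 := by
      refine hreg.pow k ?_
      change t ^ k • r • y = t ^ k • 0
      rw [smul_zero, smul_comm, ← hy, hann r hr]
    rw [Submodule.mem_colon_singleton]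
    change r • ybar ∈ (⊥ : Submodule R _)
    rw [Submodule.mem_bot, ← Submodule.Quotient.mk_smul, h4, Submodule.Quotient.mk_zero])
  have htP' : t ∈ P' := hle (by
    rw [Submodule.mem_colon_singleton, Submodule.mem_bot, ← Submodule.Quotient.mk_smul, Submodule.Quotient.mk_eq_zero]
    exact Submodule.smul_mem_smul (Ideal.mem_span_singleton_self t) Submodule.mem_top)
  rw [← hmin P' (isAssociatedPrime_iff.1 hP').1 hPP' htP']
  exact hP'

end Groth.Agent.DvrLength
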