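import Groth.Agent.DvrLength.Sch
import Groth.Agent.QC.Pullback

/-!
# The lengths of the generic fibre are bounded by those of the special fibre
-/

universe u

set_option autoImplicit false
set_option linter.style.haveILetI false
set_option backward.isDefEq.respectTransparency false

open CategoryTheory AlgebraicGeometry TopologicalSpace IsLocalRing

namespace Groth.Agent.DvrLength

open Groth.Agent.QC

variable {A : Type u} [CommRing A] [IsDomain A] [IsDiscreteValuationRing A]
  {X : Scheme.{u}} (f : X ⟶ Spec (CommRingCat.of A)) (F : X.Modules)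

theorem point_cases (x : ↥(Spec (CommRingCat.of A))) :
    x = closedPoint A ∨ x = genericPoint (Spec (CommRingCat.of A)) := by
  rw [genericPoint_eq_bot_of_affine]
  by_cases h : x.asIdeal = ⊥
  · exact Or.inr (PrimeSpectrum.ext h)
  · haveI := x.isPrime
    exact Or.inl (PrimeSpectrum.ext (eq_maximalIdeal (Ideal.IsPrime.isMaximal x.isPrime h)))

variable [IsLocallyNoetherian X]

omit [IsDiscreteValuationRing A] [IsLocallyNoetherian X] in
/-- The uniformizer is regular on the localisations. -/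
theorem isSMulRegular_localized_of_flat (hF : Coh.IsQCoh F) (hflat : FlatMod.IsFlatOver f F) {U : X.Opens}
    (hU : IsAffineOpen U) (q : Ideal Γ(X, U)) [q.IsPrime] {π : A} (hπ : Irreducible π) :
    IsSMulRegular (LocalizedModule q.primeCompl Γ(F, U))
      ((f.appLE ⊤ U le_top).hom ((Scheme.ΓSpecIso (CommRingCat.of A)).inv.hom π)) := by
  let a := (Scheme.ΓSpecIso (CommRingCat.of A)).inv.hom π
  letI : Algebra Γ(Spec (CommRingCat.of A), ⊤) Γ(X, U) := (f.appLE ⊤ U le_top).hom.toAlgebra
  letI := FlatModB.secModule f F U ⊤ le_top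
  haveI : Module.Flat Γ(Spec (CommRingCat.of A), ⊤) Γ(F, U) :=
    (FlatModB.flat_sections_iff f F hF hU (isAffineOpen_top _) le_top).2 fun x _ => hflat x
  haveI : IsDomain Γ(Spec (CommRingCat.of A), ⊤) :=
    (Scheme.ΓSpecIso (CommRingCat.of A)).commRingCatIsoToRingEquiv.toMulEquiv.isDomain A
  have ha : a ≠ 0 := fun h => hπ.ne_zero (by
    have := congrArg (Scheme.ΓSpecIso (CommRingCat.of A)).hom h
    rwa [map_zero, show (Scheme.ΓSpecIso (CommRingCat.of A)).hom a = π from Iso.inv_hom_id_apply (Scheme.ΓSpecIso (CommRingCat.of A)) π] at this)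
  have h0 : IsSMulRegular Γ(F, U) ((f.appLE ⊤ U le_top).hom a) := fun m m' h =>
    Module.Flat.isSMulRegular_of_isRegular (M := Γ(F, U)) (IsRegular.of_ne_zero ha) h
  intro m m' h
  exact IsSMulRegular.of_isLocalizedModule (Localization q.primeCompl) q.primeCompl
    (LocalizedModule.mkLinearMap q.primeCompl Γ(F, U)) h0 (by simpa only [algebraMap_smul] using h)

set_option maxHeartbeats 1000000 in
/-- A maximal point of the generic fibre's support specializes to one of the special fibre's. -/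
theorem exists_specializes [IsProper f] (hF : Coh.IsCoh F) (hflat : FlatMod.IsFlatOver f F)
    (hemb : AssSch.NoEmbedded ((Scheme.Modules.pullback (f.fiberι (closedPoint A))).obj F))
    {π : A} (hπ : Irreducible π) {v : ↥(f.fiber (genericPoint (Spec (CommRingCat.of A))))}
    (hv : v ∈ MinSupp ((Scheme.Modules.pullback (f.fiberι (genericPoint (Spec (CommRingCat.of A))))).obj F)) :
    ∃ w : ↥(f.fiber (closedPoint A)), w ∈ MinSupp ((Scheme.Modules.pullback (f.fiberι (closedPoint A))).obj F) ∧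
      f.fiberι _ v ⤳ f.fiberι _ w := by
  let y' := genericPoint (Spec (CommRingCat.of A))
  let η := f.fiberι y' v
  have hfη : f η = y' := (f.range_fiberι y').le (Set.mem_range_self v)
  have hy' : (y' : PrimeSpectrum A).asIdeal = ⊥ := by
    rw [show y' = (⊥ : PrimeSpectrum A) from genericPoint_eq_bot_of_affine _]; rfl
  have hzero : ∀ (x : X), f x = y' → ∀ (U : X.Opens) (hU : IsAffineOpen U) (hx : x ∈ U),
      Nontrivial (F.presheaf.stalk x) →
        ∀ v' : ↥(f.fiber y'), f.fiberι y' v' = x → Nontrivial (((Scheme.Modules.pullback (f.fiberι y')).obj F).presheaf.stalk v') := by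
    intro x hfx U hU hx hnt v' hv'
    subst hv'
    obtain ⟨-, h1, -⟩ := fibre_stalk f F y' v'
    obtain ⟨-, h2, h3, -⟩ := chart_stalk f F hF.1 hU hx 0 (by rw [hfx, hy', Ideal.span_singleton_zero])
    refine h1.2 (h2.2 ?_)
    rw [map_zero, map_zero, map_zero, Ideal.span_singleton_zero, Submodule.bot_smul]
    exact (Submodule.quotEquivOfEqBot _ rfl).toEquiv.nontrivial_congr.2 (h3.1 hnt)
  -- the point is associated
  have hηass : Curv2.IsAssPoint F η := by
    have hnt : Nontrivial (F.presheaf.stalk η) := by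
      obtain ⟨U, hU, hx, -⟩ := exists_isAffineOpen_mem_and_subset (X := X) (x := η) (U := ⊤) trivial
      obtain ⟨-, h1, -⟩ := fibre_stalk f F y' v
      obtain ⟨-, h2, h3, -⟩ := chart_stalk f F hF.1 hU hx 0 (by rw [hfη, hy', Ideal.span_singleton_zero])
      refine h3.2 ?_
      have h5 := h2.1 (h1.1 hv.1)
      rw [map_zero, map_zero, map_zero, Ideal.span_singleton_zero, Submodule.bot_smul] at h5
      exact (Submodule.quotEquivOfEqBot _ rfl).toEquiv.nontrivial_congr.1 h5
    obtain ⟨z, hz, hzass⟩ := AssLib.exists_ass_specializes hF.1 hnt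
    have hfz : f z = y' := by
      have h := hz.map f.continuous
      rw [hfη] at h
      exact (h.antisymm ((genericPoint_spec (Spec (CommRingCat.of A))).specializes trivial)).eq
    obtain ⟨v', hv'⟩ : z ∈ Set.range (f.fiberι y') := by rw [f.range_fiberι]; exact hfz
    have hsp : v' ⤳ v := (f.fiberι y').isEmbedding.isInducing.specializes_iff.1 (by rw [hv']; exact hz)
    obtain ⟨U, hU, hzU, -⟩ := exists_isAffineOpen_mem_and_subset (X := X) (x := z) (U := ⊤) trivial
    have := eq_of_minSupp hv (hzero z hfz U hU hzU (AssLib.nontrivial_of_isAssPoint hzass) v' hv') hsp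
    subst this
    rw [← hv'] at hzass
    exact hzass
  -- a point of the closed fibre in the closure
  have himg : closedPoint A ∈ f '' closure {η} := by
    have hcl : IsClosed (f '' closure {η}) := f.isClosedMap _ isClosed_closure
    exact ((genericPoint_spec (Spec (CommRingCat.of A))).specializes (Set.mem_univ (closedPoint A))).mem_closed
      hcl ⟨η, subset_closure rfl, hfη⟩
  obtain ⟨x, hxη, hfx⟩ := himg
  have hηx : η ⤳ x := specializes_iff_mem_closure.2 hxη
  obtain ⟨U, hU, hxU, -⟩ := exists_isAffineOpen_mem_and_subset (X := X) (x := x) (U := ⊤) trivial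
  have hηU : η ∈ U := hηx.mem_open U.2 hxU
  let t : Γ(X, U) := (f.appLE ⊤ U le_top).hom ((Scheme.ΓSpecIso (CommRingCat.of A)).inv.hom π)
  let P := (hU.primeIdealOf ⟨η, hηU⟩).asIdeal
  have htpt : ∀ (z : X) (hz : z ∈ U), t ∈ (hU.primeIdealOf ⟨z, hz⟩).asIdeal ↔ π ∈ (f z).asIdeal := by
    intro z hz
    have h1 := (WeakAssLib.mem_primeIdealOf hU hz t).symm
    rw [Scheme.basicOpen_appLE, basicOpen_eq_of_affine] at h1
    rw [← not_iff_not, h1]
    exact ⟨fun h => h.2, fun h => ⟨hz, h⟩⟩
  have hπy : π ∈ maximalIdeal A := (mem_maximalIdeal π).2 hπ.not_isUnit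
  have hle : P ≤ (hU.primeIdealOf ⟨x, hxU⟩).asIdeal := by
    have ex : hU.fromSpec.base (hU.primeIdealOf ⟨x, hxU⟩) = x := hU.fromSpec_primeIdealOf ⟨x, hxU⟩
    have eη : hU.fromSpec.base (hU.primeIdealOf ⟨η, hηU⟩) = η := hU.fromSpec_primeIdealOf ⟨η, hηU⟩
    rw [← ex, ← eη] at hηx
    exact (PrimeSpectrum.le_iff_specializes _ _).2 (hU.fromSpec.isOpenEmbedding.isInducing.specializes_iff.1 hηx)
  have htx : t ∈ (hU.primeIdealOf ⟨x, hxU⟩).asIdeal := (htpt x hxU).2 (by rw [hfx]; exact hπy)
  haveI := (hU.primeIdealOf ⟨x, hxU⟩).isPrime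
  obtain ⟨Q, hQ, hQx⟩ := Ideal.exists_minimalPrimes_le (I := P ⊔ Ideal.span {t}) (J := (hU.primeIdealOf ⟨x, hxU⟩).asIdeal)
    (sup_le hle ((Ideal.span_singleton_le_iff_mem _).2 htx))
  haveI := hQ.1.1
  obtain ⟨hzU, hzQ⟩ := InjFibre.primeIdealOf_fromSpec hU ⟨Q, hQ.1.1⟩
  let z := hU.fromSpec ⟨Q, hQ.1.1⟩
  have hzQ' : (hU.primeIdealOf ⟨z, hzU⟩).asIdeal = Q := congrArg PrimeSpectrum.asIdeal hzQ
  have hPQ : P ≤ Q := le_sup_left.trans hQ.1.2
  have htQ : t ∈ Q := hQ.1.2 (Ideal.mem_sup_right (Ideal.mem_span_singleton_self t))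
  have hfz : f z = closedPoint A := by
    rcases point_cases (f z) with h | h
    · exact h
    · exfalso
      have := (htpt z hzU).1 (hzQ'.symm ▸ htQ)
      rw [h, show genericPoint (Spec (CommRingCat.of A)) = y' from rfl, hy'] at this
      exact hπ.ne_zero this
  obtain ⟨w, hw⟩ : z ∈ Set.range (f.fiberι (closedPoint A)) := by rw [f.range_fiberι]; exact hfz
  have hηz : η ⤳ z := AssLib.specializes_of_le hU hηU hzU (by rw [hzQ']; exact hPQ)
  refine ⟨w, ?_, hw ▸ hηz⟩
  -- algebra at `Q`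
  haveI : IsNoetherianRing Γ(X, U) := IsLocallyNoetherian.component_noetherian ⟨U, hU⟩
  haveI : Module.Finite Γ(X, U) Γ(F, U) := (isCoh_iff_finite_sections.1 hF).2 ⟨U, hU⟩
  have hwass : Curv2.IsAssPoint ((Scheme.Modules.pullback (f.fiberι (closedPoint A))).obj F) w := by
    obtain ⟨-, -, h1⟩ := fibre_stalk f F (closedPoint A) w
    refine h1 ?_
    have hwU : f.fiberι (closedPoint A) w ∈ U := hw.symm ▸ hzU
    obtain ⟨-, -, -, h2⟩ := chart_stalk f F hF.1 hU hwU π (by
      rw [hw, hfz]; exact (IsDiscreteValuationRing.irreducible_iff_uniformizer π).1 hπ)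
    refine h2 inferInstance ?_
    have hQ' : (hU.primeIdealOf ⟨f.fiberι (closedPoint A) w, hwU⟩).asIdeal = Q := by
      rw [← hzQ']; congr 2; exact Subtype.ext hw
    let q := (hU.primeIdealOf ⟨f.fiberι (closedPoint A) w, hwU⟩).asIdeal
    let R := Localization q.primeCompl
    let LN := LocalizedModule q.primeCompl Γ(F, U)
    haveI : IsNoetherianRing R := IsLocalization.isNoetherianRing q.primeCompl R inferInstance
    haveI : Module.Finite R LN := Module.Finite.of_isLocalizedModule q.primeCompl (LocalizedModule.mkLinearMap q.primeCompl Γ(F, U))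
    have hPq : P ≤ q := hPQ.trans hQ'.ge
    haveI : P.IsPrime := (hU.primeIdealOf ⟨η, hηU⟩).isPrime
    have hdis : Disjoint (q.primeCompl : Set Γ(X, U)) P := Set.disjoint_left.2 fun a ha haP => ha (hPq haP)
    haveI : (P.map (algebraMap Γ(X, U) R)).IsPrime := IsLocalization.isPrime_of_isPrime_disjoint q.primeCompl R P inferInstance hdis
    have hreg : IsSMulRegular LN t := isSMulRegular_localized_of_flat f F hF.1 hflat hU q hπ
    refine exists_killed_mod (P := P.map (algebraMap Γ(X, U) R)) ?_ ?_ ?_ ?_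
    · exact (IsLocalization.AtPrime.to_map_mem_maximal_iff R q t).2 (hQ'.ge htQ)
    · intro a b hab
      exact hreg (by simpa only [algebraMap_smul] using hab)
    · obtain ⟨m, hm⟩ := AssLib.exists_colon_eq hU (isLoc_of_isQCoh hU (hM := hF.1)) hηU hηass
      refine isAssociatedPrime_iff.2 ⟨inferInstance, LocalizedModule.mkLinearMap q.primeCompl Γ(F, U) m, ?_⟩
      ext r
      obtain ⟨r₀, s₀, rfl⟩ := IsLocalization.exists_mk'_eq q.primeCompl r
      rw [IsLocalization.mk'_mem_map_algebraMap_iff, Submodule.mem_colon_singleton, Submodule.mem_bot]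
      have hu : IsUnit (algebraMap Γ(X, U) R s₀) := IsLocalization.map_units R s₀
      rw [← hu.smul_eq_zero (x := IsLocalization.mk' R r₀ s₀ • (LocalizedModule.mkLinearMap q.primeCompl Γ(F, U) m : LN)), ← mul_smul, IsLocalization.mk'_spec', algebraMap_smul, ← map_smul]
      change _ ↔ r₀ • m ∈ LinearMap.ker (LocalizedModule.mkLinearMap q.primeCompl Γ(F, U))
      rw [LocalizedModule.mem_ker_mkLinearMap_iff]
      have hker : ∀ a, a • m = 0 ↔ a ∈ P := fun a => by
        change a • m = 0 ↔ a ∈ (hU.primeIdealOf ⟨η, hηU⟩).asIdeal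
        rw [← hm]
        exact Iff.rfl
      constructor
      · rintro ⟨c, hc, hcr⟩
        exact ⟨c, hc, by rw [← mul_smul]; exact (hker _).2 hcr⟩
      · rintro ⟨c, hc, hcr⟩
        rw [← mul_smul] at hcr
        exact ⟨c, hc, (hker _).1 hcr⟩
    · intro P' hP' hPP' htP'
      haveI := hP'
      have hQP' : Q ≤ P'.comap (algebraMap Γ(X, U) R) := by
        have h3 : P'.comap (algebraMap Γ(X, U) R) ≤ q := by
          intro a ha
          by_contra haq
          exact hP'.ne_top (P'.eq_top_of_isUnit_mem ha (IsLocalization.map_units R (⟨a, haq⟩ : q.primeCompl)))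
        have h4 : P ⊔ Ideal.span {t} ≤ P'.comap (algebraMap Γ(X, U) R) :=
          sup_le (Ideal.map_le_iff_le_comap.1 hPP') ((Ideal.span_singleton_le_iff_mem _).2 htP')
        exact hQ.2 ⟨Ideal.IsPrime.comap _, h4⟩ (h3.trans hQ'.le)
      refine le_antisymm (le_maximalIdeal hP'.ne_top) fun r hr => ?_
      obtain ⟨r₀, s₀, rfl⟩ := IsLocalization.exists_mk'_eq q.primeCompl r
      have hr₀ : r₀ ∈ q := (IsLocalization.AtPrime.mk'_mem_maximal_iff R q r₀ s₀).1 hr
      exact IsLocalization.mk'_mem_iff.2 (hQP' (hQ' ▸ hr₀))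
  refine ⟨AssLib.nontrivial_of_isAssPoint hwass, fun w' hw' hsp => ?_⟩
  obtain ⟨w'', hw'', hass''⟩ := AssLib.exists_ass_specializes (isQCoh_pullback _ hF.1) hw'
  have h5 : w'' ⤳ w := hw''.trans (specializes_iff_mem_closure.2 hsp)
  obtain rfl := hemb w hwass w'' hass'' h5
  exact (hw''.antisymm (specializes_iff_mem_closure.2 hsp)).eq.symm

set_option maxHeartbeats 1000000 in
/-- The lengths above one point of the special fibre. -/
theorem sum_le [IsProper f] (hF : Coh.IsCoh F) (hflat : FlatMod.IsFlatOver f F) {π : A} (hπ : Irreducible π)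
    (w : ↥(f.fiber (closedPoint A)))
    (S : Finset ↥(f.fiber (genericPoint (Spec (CommRingCat.of A)))))
    (hS : ∀ v ∈ S, v ∈ MinSupp ((Scheme.Modules.pullback (f.fiberι (genericPoint (Spec (CommRingCat.of A))))).obj F) ∧
      f.fiberι _ v ⤳ f.fiberι _ w) :
    ∑ v ∈ S, Module.length ((f.fiber (genericPoint (Spec (CommRingCat.of A)))).presheaf.stalk v)
        (((Scheme.Modules.pullback (f.fiberι (genericPoint (Spec (CommRingCat.of A))))).obj F).presheaf.stalk v) ≤
      Module.length ((f.fiber (closedPoint A)).presheaf.stalk w)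
        (((Scheme.Modules.pullback (f.fiberι (closedPoint A))).obj F).presheaf.stalk w) := by
  classical
  let y' := genericPoint (Spec (CommRingCat.of A))
  have hy' : (y' : PrimeSpectrum A).asIdeal = ⊥ := by
    rw [show y' = (⊥ : PrimeSpectrum A) from genericPoint_eq_bot_of_affine _]; rfl
  let x := f.fiberι (closedPoint A) w
  have hfx : f x = closedPoint A := (f.range_fiberι (closedPoint A)).le (Set.mem_range_self w)
  obtain ⟨U, hU, hxU, -⟩ := exists_isAffineOpen_mem_and_subset (X := X) (x := x) (U := ⊤) trivial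
  haveI : IsNoetherianRing Γ(X, U) := IsLocallyNoetherian.component_noetherian ⟨U, hU⟩
  haveI : Module.Finite Γ(X, U) Γ(F, U) := (isCoh_iff_finite_sections.1 hF).2 ⟨U, hU⟩
  let t : Γ(X, U) := (f.appLE ⊤ U le_top).hom ((Scheme.ΓSpecIso (CommRingCat.of A)).inv.hom π)
  let Q := (hU.primeIdealOf ⟨x, hxU⟩).asIdeal
  have htpt : ∀ (z : X) (hz : z ∈ U), t ∈ (hU.primeIdealOf ⟨z, hz⟩).asIdeal ↔ π ∈ (f z).asIdeal := by
    intro z hz
    have h1 := (WeakAssLib.mem_primeIdealOf hU hz t).symm
    rw [Scheme.basicOpen_appLE, basicOpen_eq_of_affine] at h1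
    rw [← not_iff_not, h1]
    exact ⟨fun h => h.2, fun h => ⟨hz, h⟩⟩
  have htQ : t ∈ Q := (htpt x hxU).2 (by rw [hfx]; exact (mem_maximalIdeal π).2 hπ.not_isUnit)
  have hvU : ∀ v : S, f.fiberι y' v.1 ∈ U := fun v => (hS v.1 v.2).2.mem_open U.2 hxU
  have hfv : ∀ v : ↥(f.fiber y'), f (f.fiberι y' v) = y' := fun v =>
    (f.range_fiberι y').le (Set.mem_range_self v)
  let P (v : S) : {P : PrimeSpectrum Γ(X, U) // P.asIdeal ≤ Q ∧ t ∉ P.asIdeal} :=
    ⟨hU.primeIdealOf ⟨f.fiberι y' v.1, hvU v⟩, by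
      have ex : hU.fromSpec.base (hU.primeIdealOf ⟨x, hxU⟩) = x := hU.fromSpec_primeIdealOf ⟨x, hxU⟩
      have ev : hU.fromSpec.base (hU.primeIdealOf ⟨_, hvU v⟩) = f.fiberι y' v.1 := hU.fromSpec_primeIdealOf ⟨_, hvU v⟩
      have h := (hS v.1 v.2).2
      rw [show f.fiberι (closedPoint A) w = x from rfl, ← ex, ← ev] at h
      exact (PrimeSpectrum.le_iff_specializes _ _).2 (hU.fromSpec.isOpenEmbedding.isInducing.specializes_iff.1 h),
      fun h => by
        have := (htpt _ (hvU v)).1 h
        rw [hfv, hy'] at this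
        exact hπ.ne_zero this⟩
  have hmin : ∀ v v' : S, (P v).1.asIdeal ≤ (P v').1.asIdeal → v = v' := fun v v' h => by
    have h1 := AssLib.specializes_of_le hU (hvU v) (hvU v') h
    exact Subtype.ext (eq_of_minSupp (hS v'.1 v'.2).1 (hS v.1 v.2).1.1 ((f.fiberι y').isEmbedding.isInducing.specializes_iff.1 h1))
  have hreg := isSMulRegular_localized_of_flat f F hF.1 hflat hU Q hπ
  have key := sum_length_le Q htQ (Finset.univ.image P)
    (fun a ha b hb hab => by
      obtain ⟨v, -, rfl⟩ := Finset.mem_image.1 ha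
      obtain ⟨v', -, rfl⟩ := Finset.mem_image.1 hb
      rw [hmin v v' hab]) Γ(F, U) hreg
  rw [Finset.sum_image (fun a _ b _ hab => hmin a b (le_of_eq (congrArg (fun p => p.1.asIdeal) hab)))] at key
  obtain ⟨hlen, -, -⟩ := fibre_stalk f F (closedPoint A) w
  obtain ⟨hlen', -, -, -⟩ := chart_stalk f F hF.1 hU hxU π (by
    rw [hfx]; exact (IsDiscreteValuationRing.irreducible_iff_uniformizer π).1 hπ)
  rw [hlen, hlen', ← Finset.sum_coe_sort S]
  refine le_trans (le_of_eq (Finset.sum_congr rfl fun v _ => ?_)) key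
  obtain ⟨hl, -, -⟩ := fibre_stalk f F y' v.1
  obtain ⟨hl', -, -, -⟩ := chart_stalk f F hF.1 hU (hvU v) 0 (by rw [hfv, hy', Ideal.span_singleton_zero])
  refine hl.trans (hl'.trans ?_)
  rw [map_zero, map_zero, map_zero, Ideal.span_singleton_zero, Submodule.bot_smul]
  exact (Submodule.quotEquivOfEqBot _ rfl).length_eq

end Groth.Agent.DvrLength
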