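import Groth.Agent.DvrLength.Alg
import Groth.Agent.AssLib.Points
import Groth.Agent.KFlat.Pullback
import Groth.Agent.KFlat.SchemeStalk
import Groth.Agent.LocFree.Rank
import Groth.Agent.LocFree.Props
import Groth.Agent.FibCrit.Scheme
import Groth.Agent.InjFibre.Stalk
import Groth.Agent.FlatModB.Basic
import Groth.Agent.QC.Closure
import Groth.Agent.QC.Coherent

/-!
# Lengths on the fibres of a proper flat module over a discrete valuation ring
-/

universe u

set_option autoImplicit false
set_option linter.style.haveILetI false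
set_option backward.isDefEq.respectTransparency false

open CategoryTheory AlgebraicGeometry TopologicalSpace TensorProduct IsLocalRing

namespace Groth.Agent.DvrLength

open Groth.Agent.QC

/-- The maximal points of the support. -/
def MinSupp {X : Scheme.{u}} (M : X.Modules) : Set X :=
  {v | Nontrivial (M.presheaf.stalk v) ∧ ∀ w : X, Nontrivial (M.presheaf.stalk w) → v ∈ closure {w} → w = v}

theorem eq_of_minSupp {X : Scheme.{u}} {M : X.Modules} {v w : X} (hv : v ∈ MinSupp M) (hw : Nontrivial (M.presheaf.stalk w))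
    (h : w ⤳ v) : w = v :=
  hv.2 w hw (specializes_iff_mem_closure.1 h)

theorem isAssPoint_of_minSupp {X : Scheme.{u}} {M : X.Modules} (hM : Coh.IsQCoh M) {v : X} (hv : v ∈ MinSupp M) :
    Curv2.IsAssPoint M v :=
  ((AssLib.ass_minimal_iff hM v).2 ⟨hv.1, fun _ hw h => eq_of_minSupp hv hw h⟩).1

theorem finite_minSupp {X : Scheme.{u}} [IsLocallyNoetherian X] [CompactSpace X] {M : X.Modules} (hM : Coh.IsCoh M) :
    (MinSupp M).Finite := by
  have hch : ∀ x : X, ∃ U : X.Opens, IsAffineOpen U ∧ x ∈ U := fun x => by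
    obtain ⟨U, hU, hx, -⟩ := exists_isAffineOpen_mem_and_subset (X := X) (x := x) (U := ⊤) trivial
    exact ⟨U, hU, hx⟩
  choose U hU hxU using hch
  obtain ⟨T, hT⟩ := CompactSpace.elim_nhds_subcover (fun x => (U x : Set X)) fun x => (U x).2.mem_nhds (hxU x)
  refine Set.Finite.subset (T.finite_toSet.biUnion fun i _ =>
    show {v : X | v ∈ U i ∧ v ∈ MinSupp M}.Finite from ?_) fun v hv => ?_
  · haveI : IsNoetherianRing Γ(X, U i) := IsLocallyNoetherian.component_noetherian ⟨U i, hU i⟩
    haveI : Module.Finite Γ(X, U i) Γ(M, U i) := (isCoh_iff_finite_sections.1 hM).2 ⟨U i, hU i⟩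
    have hsub : {v : U i | (v : X) ∈ MinSupp M}.Finite := by
      refine Set.Finite.of_finite_image (f := fun v : U i => ((hU i).primeIdealOf v).asIdeal)
        ((associatedPrimes.finite Γ(X, U i) Γ(M, U i)).subset ?_) ?_
      · rintro _ ⟨v, hv, rfl⟩
        obtain ⟨t, ht⟩ := AssLib.exists_colon_eq (hU i) (isLoc_of_isQCoh (hU i) (hM := hM.1)) v.2
          (isAssPoint_of_minSupp hM.1 hv)
        exact isAssociatedPrime_iff.2 ⟨((hU i).primeIdealOf v).isPrime, t, by rw [AssLib.ker_eq_colon]; exact ht.symm⟩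
      · intro a _ b _ hab
        exact Subtype.ext (((AssLib.specializes_of_le (hU i) a.2 b.2 hab.le).antisymm
          (AssLib.specializes_of_le (hU i) b.2 a.2 hab.ge)).eq)
    exact (hsub.image Subtype.val).subset fun v hv => ⟨⟨v, hv.1⟩, hv.2, rfl⟩
  · have h := Set.eq_univ_iff_forall.1 hT v
    simp only [Set.mem_iUnion] at h
    obtain ⟨i, hi, hvi⟩ := h
    exact Set.mem_biUnion hi ⟨hvi, hv⟩

set_option maxHeartbeats 1000000 in
/-- The stalks on a fibre. -/
theorem fibre_stalk {X S : Scheme.{u}} [IsLocallyNoetherian X] (f : X ⟶ S) (F : X.Modules) (s : S) (v : ↥(f.fiber s)) :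
    let x := f.fiberι s v
    let I := (maximalIdeal (S.presheaf.stalk (f x))).map (f.stalkMap x).hom
    let Q := ↑(F.presheaf.stalk x) ⧸ (I • (⊤ : Submodule (X.presheaf.stalk x) (F.presheaf.stalk x)))
    Module.length ((f.fiber s).presheaf.stalk v) (((Scheme.Modules.pullback (f.fiberι s)).obj F).presheaf.stalk v) =
        Module.length (X.presheaf.stalk x) Q ∧
      (Nontrivial (((Scheme.Modules.pullback (f.fiberι s)).obj F).presheaf.stalk v) ↔ Nontrivial Q) ∧
      (IsAssociatedPrime (maximalIdeal (X.presheaf.stalk x)) Q →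
        Curv2.IsAssPoint ((Scheme.Modules.pullback (f.fiberι s)).obj F) v) := by
  intro x I Q
  let R := X.presheaf.stalk x
  let Rv := (f.fiber s).presheaf.stalk v
  let P := (DerSch.stalkFunctor (f.fiber s) v).obj ((Scheme.Modules.pullback (f.fiberι s)).obj F)
  obtain ⟨hsurj, hker⟩ := FibCrit.fiberι_stalkMap f s v
  letI : Algebra R Rv := ((f.fiberι s).stalkMap v).hom.toAlgebra
  letI : Module R P := Module.compHom P (algebraMap R Rv)
  haveI : IsScalarTower R Rv P := IsScalarTower.of_algebraMap_smul fun _ _ => rfl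
  let e : P ≃ₗ[Rv] Rv ⊗[R] (DerSch.stalkFunctor X x).obj F := ((KFlat.pullStalkIso (f.fiberι s) v).app F).toLinearEquiv
  let σ : (R ⧸ I) ≃ₐ[R] Rv :=
    (Ideal.quotientEquivAlgOfEq R (show I = RingHom.ker (Algebra.ofId R Rv) from hker.symm)).trans
      (Ideal.quotientKerAlgEquivOfSurjective hsurj)
  let L : P ≃ₗ[R] Q := (e.restrictScalars R).trans ((LinearEquiv.rTensor (R := R) ((DerSch.stalkFunctor X x).obj F) σ.toLinearEquiv.symm).trans
    (TensorProduct.quotTensorEquivQuotSMul (M := (DerSch.stalkFunctor X x).obj F) I))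
  refine ⟨?_, ?_, ?_⟩
  · exact (Module.length_eq_of_surjective (R := Rv) (S := R) (M := P) hsurj).symm.trans L.length_eq
  · exact L.toEquiv.nontrivial_congr
  · intro h
    obtain ⟨hp, z, hz⟩ := isAssociatedPrime_iff.1 h
    haveI : IsNoetherianRing Rv := isNoetherianRing_of_surjective R Rv (algebraMap R Rv) hsurj
    refine isAssociatedPrime_iff.2 ⟨(maximalIdeal.isMaximal Rv).isPrime, L.symm z, ?_⟩
    haveI : IsLocalHom (algebraMap R Rv) := inferInstanceAs (IsLocalHom ((f.fiberι s).stalkMap v).hom)
    apply Ideal.comap_injective_of_surjective (algebraMap R Rv) hsurj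
    rw [show (maximalIdeal Rv).comap (algebraMap R Rv) = maximalIdeal R from
      IsLocalRing.maximalIdeal_comap (algebraMap R Rv), hz]
    ext r
    simp only [Ideal.mem_comap, Submodule.mem_colon_singleton, Submodule.mem_bot]
    change r • z = 0 ↔ algebraMap R Rv r • (L.symm z : P) = 0
    rw [algebraMap_smul, ← map_smul, LinearEquiv.map_eq_zero_iff]

variable {A : Type u} [CommRing A] {X : Scheme.{u}} (f : X ⟶ Spec (CommRingCat.of A))

set_option maxHeartbeats 1000000 in
/-- On a chart, the stalk modulo the maximal ideal of the base. -/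
theorem chart_stalk (F : X.Modules) (hF : Coh.IsQCoh F) {U : X.Opens} (hU : IsAffineOpen U) {x : X} (hx : x ∈ U)
    (s : A) (hs : (f x).asIdeal = Ideal.span {s}) :
    let B := Γ(X, U)
    let q := (hU.primeIdealOf ⟨x, hx⟩).asIdeal
    let t : B := (f.appLE ⊤ U le_top).hom ((Scheme.ΓSpecIso (CommRingCat.of A)).inv.hom s)
    let LN := LocalizedModule q.primeCompl Γ(F, U)
    let J : Submodule (Localization q.primeCompl) LN := Ideal.span {algebraMap B (Localization q.primeCompl) t} • ⊤
    let Q := ↑(F.presheaf.stalk x) ⧸ ((maximalIdeal ((Spec (CommRingCat.of A)).presheaf.stalk (f x))).map (f.stalkMap x).hom •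
      (⊤ : Submodule (X.presheaf.stalk x) (F.presheaf.stalk x)))
    Module.length (X.presheaf.stalk x) Q = Module.length (Localization q.primeCompl) (LN ⧸ J) ∧
      (Nontrivial Q ↔ Nontrivial (LN ⧸ J)) ∧ (Nontrivial (F.presheaf.stalk x) ↔ Nontrivial LN) ∧
      (IsNoetherianRing B → IsAssociatedPrime (maximalIdeal (Localization q.primeCompl)) (LN ⧸ J) →
        IsAssociatedPrime (maximalIdeal (X.presheaf.stalk x)) Q) := by
  intro B q t LN J Q
  let R := X.presheaf.stalk x
  let Rq := Localization q.primeCompl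
  let N := F.presheaf.stalk x
  letI := TopCat.Presheaf.algebra_section_stalk X.presheaf (⟨x, hx⟩ : U)
  haveI : IsLocalization.AtPrime R q := hU.isLocalization_stalk ⟨x, hx⟩
  let σ : Rq ≃ₐ[B] R := IsLocalization.algEquiv q.primeCompl Rq R
  letI : Algebra Rq R := σ.toRingEquiv.toRingHom.toAlgebra
  haveI : IsScalarTower B Rq R := IsScalarTower.of_algebraMap_eq fun b => (σ.commutes b).symm
  letI : Module Γ(X, U) N := Module.compHom N (X.presheaf.germ U x hx).hom
  haveI : IsScalarTower B R N := IsScalarTower.of_algebraMap_smul fun _ _ => rfl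
  letI : Module Rq N := Module.compHom N (algebraMap Rq R)
  haveI : IsScalarTower Rq R N := IsScalarTower.of_algebraMap_smul fun _ _ => rfl
  haveI : IsScalarTower B Rq N := IsScalarTower.of_algebraMap_smul fun b z => by
    rw [← algebraMap_smul R (algebraMap B Rq b) z, ← IsScalarTower.algebraMap_apply, algebraMap_smul]
  obtain ⟨g, hg⟩ := LocFree.exists_stalkMap hU hF hx
  haveI := hg
  let e : LN ≃ₗ[Rq] N := LinearEquiv.extendScalarsOfIsLocalization q.primeCompl Rq (IsLocalizedModule.iso q.primeCompl g)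
  have hI : (maximalIdeal ((Spec (CommRingCat.of A)).presheaf.stalk (f x))).map (f.stalkMap x).hom =
      Ideal.span {algebraMap B R t} := by
    letI := TopCat.Presheaf.algebra_section_stalk (Spec (CommRingCat.of A)).presheaf (⟨f x, trivial⟩ : (⊤ : (Spec (CommRingCat.of A)).Opens))
    haveI := (isAffineOpen_top (Spec (CommRingCat.of A))).isLocalization_stalk ⟨f x, trivial⟩
    have hp : ((isAffineOpen_top (Spec (CommRingCat.of A))).primeIdealOf ⟨f x, trivial⟩).asIdeal =
        Ideal.span {(Scheme.ΓSpecIso (CommRingCat.of A)).inv.hom s} := by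
      ext a
      have h1 := (WeakAssLib.mem_primeIdealOf (isAffineOpen_top (Spec (CommRingCat.of A))) (x := f x) trivial a)
      rw [basicOpen_eq_of_affine'] at h1
      have h2 : a ∈ ((isAffineOpen_top (Spec (CommRingCat.of A))).primeIdealOf ⟨f x, trivial⟩).asIdeal ↔
          (Scheme.ΓSpecIso (CommRingCat.of A)).hom a ∈ (f x).asIdeal :=
        not_iff_not.1 (h1.symm.trans Iff.rfl)
      rw [h2, hs, Ideal.mem_span_singleton, Ideal.mem_span_singleton]
      constructor
      · intro hd
        have := map_dvd (Scheme.ΓSpecIso (CommRingCat.of A)).inv.hom hd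
        rwa [show (Scheme.ΓSpecIso (CommRingCat.of A)).inv.hom ((Scheme.ΓSpecIso (CommRingCat.of A)).hom a) = a from
          Iso.hom_inv_id_apply _ a] at this
      · intro hd
        have := map_dvd (Scheme.ΓSpecIso (CommRingCat.of A)).hom.hom hd
        rwa [show (Scheme.ΓSpecIso (CommRingCat.of A)).hom.hom ((Scheme.ΓSpecIso (CommRingCat.of A)).inv.hom s) = s from
          congr($((Scheme.ΓSpecIso (CommRingCat.of A)).inv_hom_id).hom s)] at this
    rw [← IsLocalization.AtPrime.map_eq_maximalIdeal
      ((isAffineOpen_top (Spec (CommRingCat.of A))).primeIdealOf ⟨f x, trivial⟩).asIdeal, hp, Ideal.map_span, Ideal.map_span,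
      Set.image_singleton, Set.image_singleton]
    congr 2
    exact FibCrit.germ_comm f ⊤ U le_top x hx _
  let K : Submodule R N := (maximalIdeal ((Spec (CommRingCat.of A)).presheaf.stalk (f x))).map (f.stalkMap x).hom • ⊤
  have hK : J.map e.toLinearMap = K.restrictScalars Rq := by
    ext z
    rw [Submodule.map_smul'', Submodule.map_top, LinearEquiv.range, Submodule.restrictScalars_mem,
      show K = Ideal.span {algebraMap B R t} • (⊤ : Submodule R N) by rw [← hI],
      Submodule.ideal_span_singleton_smul, Submodule.ideal_span_singleton_smul,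
      Submodule.mem_smul_pointwise_iff_exists, Submodule.mem_smul_pointwise_iff_exists]
    simp only [algebraMap_smul, Submodule.mem_top, true_and]
  let eQ : (LN ⧸ J) ≃ₗ[Rq] Q :=
    (Submodule.Quotient.equiv J (K.restrictScalars Rq) e hK).trans (Submodule.Quotient.restrictScalarsEquiv Rq K)
  have hsurj : Function.Surjective (algebraMap Rq R) := σ.surjective
  refine ⟨(Module.length_eq_of_surjective (R := R) (S := Rq) (M := Q) hsurj).symm.trans eQ.symm.length_eq,
    eQ.toEquiv.nontrivial_congr.symm, e.toEquiv.nontrivial_congr.symm, fun hB h => ?_⟩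
  haveI := hB
  haveI : IsNoetherianRing Rq := IsLocalization.isNoetherianRing q.primeCompl Rq inferInstance
  haveI : IsNoetherianRing R := isNoetherianRing_of_surjective Rq R (algebraMap Rq R) hsurj
  obtain ⟨hp, z, hz⟩ := isAssociatedPrime_iff.1 h
  refine isAssociatedPrime_iff.2 ⟨(maximalIdeal.isMaximal R).isPrime, eQ z, ?_⟩
  haveI : IsLocalHom (algebraMap Rq R) := ⟨fun a ha => (MulEquiv.isUnit_map σ.toRingEquiv.toMulEquiv).1 ha⟩
  apply Ideal.comap_injective_of_surjective (algebraMap Rq R) hsurj
  rw [show (maximalIdeal R).comap (algebraMap Rq R) = maximalIdeal Rq from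
    IsLocalRing.maximalIdeal_comap (algebraMap Rq R), hz]
  ext r
  simp only [Ideal.mem_comap, Submodule.mem_colon_singleton, Submodule.mem_bot]
  change r • z = 0 ↔ algebraMap Rq R r • eQ z = 0
  rw [algebraMap_smul, ← map_smul, LinearEquiv.map_eq_zero_iff]

end Groth.Agent.DvrLength
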